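import Cfsg.Agent.H47.Wk.Count
import Cfsg.Agent.TypeM.Two

/-!
# `O_2(C(w))` in groups with involution centralizer `2.A_n` (helper47, S4095)

`cases_of_core` : `MT n G`, `w` of odd prime order with `O_2(C(w)) ≠ 1`: for some involution `t` commuting with `w`, the image
of `w` in `C(t) / t = A_n` moves at most `n - 8` letters, or `C(w) ≤ C(t)`.
-/

set_option autoImplicit false

namespace Cfsg.Agent.H47.Wk.AltCore

open Subgroup Equiv Cfsg Cfsg.Agent.SporRec.TwoAn Cfsg.Agent.TypeM.Two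

/-- An involution `s` commuting with `w`, all of whose commutators with the elements of order `p` of `C(w)` have order at
most 2, fixes the letters moved by `w`. -/
theorem fix_of_key {n : ℕ} {p : ℕ} (hp2 : Odd p) {w s : Perm (Fin n)} (hw : w ^ p = 1) (hs : s * s = 1)
    (hsw : s * w = w * s)
    (key : ∀ c : Perm (Fin n), c ^ p = 1 → c * w = w * c → (s * c * s⁻¹ * c⁻¹) ^ 2 = 1)
    {a : Fin n} (ha : w a ≠ a) : s a = a := by
  set c := w.cycleOf a with hc
  have hcm : c ∈ w.cycleFactorsFinset := Perm.cycleOf_mem_cycleFactorsFinset_iff.2 (Perm.mem_support.2 ha)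
  have hcw : Commute c w := Perm.self_mem_cycle_factors_commute hcm
  have hcp : c ^ p = 1 := by
    rw [← orderOf_dvd_iff_pow_eq_one]
    exact (Perm.orderOf_cycleOf_dvd_orderOf w a).trans (orderOf_dvd_of_pow_eq_one hw)
  have hca : c a ≠ a := by
    rw [hc, Perm.cycleOf_apply_self]
    exact ha
  have hcyc : c.IsCycle := Perm.isCycle_cycleOf w ha
  have hsws : s * w * s⁻¹ = w := by rw [hsw, mul_inv_cancel_right]
  have hcm' : s * c * s⁻¹ ∈ w.cycleFactorsFinset := by
    have h1 := (Perm.mem_cycleFactorsFinset_conj w s c).2 hcm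
    rwa [hsws] at h1
  have hcc : Commute (s * c * s⁻¹) c := by
    by_cases h1 : s * c * s⁻¹ = c
    · rw [h1]
    · exact (w.cycleFactorsFinset_mem_commute hcm' hcm h1)
  have h2 := key c hcp hcw
  have hup : (s * c * s⁻¹ * c⁻¹) ^ p = 1 := by
    rw [hcc.inv_right.mul_pow, conj_pow, hcp, inv_pow, hcp]
    simp
  have hu : s * c * s⁻¹ * c⁻¹ = 1 := by
    obtain ⟨k, hk⟩ := hp2
    rw [hk, pow_succ, pow_mul, h2, one_pow, one_mul] at hup
    exact hup
  have hsc : s * c = c * s := by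
    rw [mul_inv_eq_one, mul_inv_eq_iff_eq_mul] at hu
    exact hu
  have hsa : c (s a) ≠ s a := by
    intro h
    apply hca
    apply s.injective
    have h3 := congrArg (fun f : Perm (Fin n) => f a) hsc
    change s (c a) = c (s a) at h3
    rw [h3, h]
  obtain ⟨i, hi⟩ := hcyc.sameCycle hca hsa
  -- `c ^ i a = s a`
  have hsi : Commute s (c ^ i) := (show Commute s c from hsc).zpow_right i
  have h4 : (c ^ i) (s a) = a := by
    have h5 := congrArg (fun f : Perm (Fin n) => f a) hsi.eq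
    change s ((c ^ i) a) = (c ^ i) (s a) at h5
    rw [← h5, hi]
    have h6 := congrArg (fun f : Perm (Fin n) => f a) hs
    exact h6
  have h5 : ((c ^ i) ^ 2) a = a := by
    rw [pow_two, Perm.mul_apply, hi, h4]
  have h6 : ((c ^ i) ^ p) a = a := by
    rw [← zpow_natCast, ← zpow_mul, mul_comm, zpow_mul, zpow_natCast, hcp, one_zpow]
    rfl
  obtain ⟨k, hk⟩ := hp2
  have h7 : (((c ^ i) ^ 2) ^ k) a = a := by
    have : ∀ m : ℕ, (((c ^ i) ^ 2) ^ m) a = a := by
      intro m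
      induction m with
      | zero => rfl
      | succ m ih => rw [pow_succ, Perm.mul_apply, h5, ih]
    exact this k
  rw [hk, pow_succ', pow_mul, Perm.mul_apply, h7, hi] at h6
  exact h6

variable {n : ℕ} {G : Type*} [Group G]

/-- If `Z` is an abelian subgroup, normalized by `C(w)`, containing `t`, and `w` moves more than `n - 8` letters then
`C(w) ≤ C(t)`. -/
theorem le_of_abelian (L : MT n G) {w : G} {p : ℕ} (hp2 : Odd p) (hw : w ^ p = 1) (hwt : w * L.t = L.t * w)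
    (Z : Subgroup G) (hZ : ∀ a ∈ Z, ∀ b ∈ Z, a * b = b * a)
    (hZC : ∀ g ∈ centralizer ({w} : Set G), ∀ z ∈ Z, g * z * g⁻¹ ∈ Z) (htZ : L.t ∈ Z)
    (hZw : Z ≤ centralizer ({w} : Set G))
    (hn : n < (L.K.π ⟨w, L.mem_iff.2 hwt⟩).support.card + 8) :
    centralizer ({w} : Set G) ≤ centralizer ({L.t} : Set G) := by
  intro g hg
  rw [L.mem_iff]
  obtain ⟨s, hsdef⟩ : ∃ s, s = g * L.t * g⁻¹ := ⟨_, rfl⟩
  have hsZ : s ∈ Z := by rw [hsdef]; exact hZC g hg _ htZ
  have hss : s * s = 1 := by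
    rw [hsdef]
    calc g * L.t * g⁻¹ * (g * L.t * g⁻¹) = g * (L.t * L.t) * g⁻¹ := by group
      _ = 1 := by rw [L.t_mul_t]; group
  suffices hst : s = L.t by
    rw [hsdef, mul_inv_eq_iff_eq_mul] at hst
    exact hst
  by_contra hne
  have hs1 : s ≠ 1 := by
    intro h
    apply L.t_ne
    rw [hsdef] at h
    have : L.t = g⁻¹ * 1 * g := by rw [← h]; group
    rw [this]; group
  have hsC : s ∈ centralizer ({L.t} : Set G) := L.mem_iff.2 (hZ _ hsZ _ htZ)
  let w' : ↥(centralizer ({L.t} : Set G)) := ⟨w, L.mem_iff.2 hwt⟩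
  let s' : ↥(centralizer ({L.t} : Set G)) := ⟨s, hsC⟩
  have hsw : s * w = w * s := mem_centralizer_singleton_iff.1 (hZw hsZ)
  have hsw' : s' * w' = w' * s' := Subtype.ext hsw
  have hw' : w' ^ p = 1 := Subtype.ext hw
  have hss' : s' * s' = 1 := Subtype.ext hss
  obtain ⟨hb1, hb8⟩ := L.K.sq_eq_one_iff.1 hss'
  have hb0 : L.K.π s' ≠ 1 := by
    intro h
    rcases (L.K.ker s').1 h with h | h
    · exact hs1 (congrArg Subtype.val h)
    · exact hne ((congrArg Subtype.val h).trans L.hz)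
  have hfix : ∀ a, L.K.π w' a ≠ a → L.K.π s' a = a := by
    intro a ha
    refine fix_of_key (p := p) hp2 (w := L.K.π w') (by rw [← map_pow, hw', map_one]) hb1
      (by rw [← map_mul, hsw', map_mul]) ?_ ha
    intro c hc hcw
    have hca : c ∈ alternatingGroup (Fin n) := by
      rw [Perm.mem_alternatingGroup]
      have h1 : (Perm.sign c) ^ p = 1 := by rw [← map_pow, hc, map_one]
      obtain ⟨k, hk⟩ := hp2
      rcases Int.units_eq_one_or (Perm.sign c) with h2 | h2
      · exact h2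
      · rw [h2, hk, pow_succ, pow_mul] at h1
        norm_num at h1
    obtain ⟨c', hc', hcp⟩ := L.K.exists_odd_lift hca hp2 hc
    have hcw' : c' * w' = w' * c' := L.K.commute_of_odd hp2 hcp (by rw [hc', hcw])
    have hcC : (c' : G) ∈ centralizer ({w} : Set G) := mem_centralizer_singleton_iff.2 (congrArg Subtype.val hcw')
    have hs2 : (c' : G) * s * (c' : G)⁻¹ ∈ Z := hZC _ hcC s hsZ
    have hcomm : Commute s ((c' : G) * s * (c' : G)⁻¹) := hZ _ hsZ _ hs2
    have h3 : s' * c' * s'⁻¹ * c'⁻¹ = s' * (c' * s' * c'⁻¹)⁻¹ := by group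
    have h4 : (s' * (c' * s' * c'⁻¹)⁻¹) ^ 2 = 1 := by
      have hcomm' : Commute s' (c' * s' * c'⁻¹) := Subtype.ext hcomm
      rw [hcomm'.inv_right.mul_pow, pow_two, hss', one_mul, inv_pow, conj_pow, pow_two, hss']
      simp
    rw [← hc', ← map_mul, ← map_inv, ← map_mul, ← map_inv, ← map_mul, ← map_pow, h3, h4, map_one]
  have hdis : Disjoint (L.K.π s').support (L.K.π w').support := by
    rw [Finset.disjoint_left]
    intro a h1 h2
    exact (Perm.mem_support.1 h1) (hfix a (Perm.mem_support.1 h2))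
  have h1 := Finset.card_union_of_disjoint hdis
  have h2 : ((L.K.π s').support ∪ (L.K.π w').support).card ≤ n := (Finset.card_le_univ _).trans (by simp)
  have h3 : (L.K.π s').support.card ≠ 0 := fun h => hb0 (Perm.card_support_eq_zero.1 h)
  obtain ⟨k, hk⟩ := hb8
  change n < (L.K.π w').support.card + 8 at hn
  omega

/-- the center of `O_2(C(w))` -/
theorem exists_of_core {w : G} [Finite G] (h : pCore 2 ↥(centralizer ({w} : Set G)) ≠ ⊥) :
    ∃ (Z : Subgroup G) (t : G), (∀ a ∈ Z, ∀ b ∈ Z, a * b = b * a) ∧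
      (∀ g ∈ centralizer ({w} : Set G), ∀ z ∈ Z, g * z * g⁻¹ ∈ Z) ∧ t ∈ Z ∧ orderOf t = 2 ∧
      Z ≤ centralizer ({w} : Set G) := by
  have h1 := (Lib.Cores.pCore_isPGroup (G := ↥(centralizer ({w} : Set G))) 2)
  have hN := (Lib.Cores.pCore_normal (G := ↥(centralizer ({w} : Set G))) 2)
  have : Fact (Nat.Prime 2) := ⟨Nat.prime_two⟩
  set R := pCore 2 ↥(centralizer ({w} : Set G)) with hR
  have hnt : Nontrivial R := (Subgroup.nontrivial_iff_ne_bot _).2 h
  have hz := h1.center_nontrivial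
  have hzp : IsPGroup 2 (center ↥R) := h1.to_subgroup _
  obtain ⟨k, hk⟩ := IsPGroup.iff_card.1 hzp
  have hk0 : k ≠ 0 := by
    rintro rfl
    have h2 : 1 < Nat.card (center ↥R) := Finite.one_lt_card
    rw [hk] at h2
    norm_num at h2
  obtain ⟨z, hzo⟩ := exists_prime_orderOf_dvd_card' (G := center ↥R) 2 (by rw [hk]; exact dvd_pow_self 2 hk0)
  refine ⟨((center ↥R).map R.subtype).map (centralizer ({w} : Set G)).subtype, (((z : R) : _) : G), ?_, ?_,
    ⟨_, ⟨z, z.2, rfl⟩, rfl⟩, ?_, ?_⟩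
  · rintro _ ⟨_, ⟨a, ha, rfl⟩, rfl⟩ _ ⟨_, ⟨b, -, rfl⟩, rfl⟩
    have h2 : a * b = b * a := (mem_center_iff.1 ha b).symm
    exact congrArg (fun u : R => (((u : _) : ↥(centralizer ({w} : Set G))) : G)) h2
  · rintro g hg _ ⟨_, ⟨a, ha, rfl⟩, rfl⟩
    have h3 : (⟨g, hg⟩ : ↥(centralizer ({w} : Set G))) * (a : ↥(centralizer ({w} : Set G))) *
        (⟨g, hg⟩ : ↥(centralizer ({w} : Set G)))⁻¹ ∈ R := hN.conj_mem _ a.2 _
    refine ⟨_, ⟨⟨_, h3⟩, ?_, rfl⟩, rfl⟩
    rw [SetLike.mem_coe, mem_center_iff]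
    intro b
    apply Subtype.ext
    set g' : ↥(centralizer ({w} : Set G)) := ⟨g, hg⟩ with hg'
    change (b : ↥(centralizer ({w} : Set G))) * (g' * a * g'⁻¹) = g' * a * g'⁻¹ * b
    have h4 : g'⁻¹ * (b : ↥(centralizer ({w} : Set G))) * g' ∈ R := by
      have := hN.conj_mem _ b.2 g'⁻¹
      rwa [inv_inv] at this
    have h5 : (g'⁻¹ * (b : ↥(centralizer ({w} : Set G))) * g') * a = a * (g'⁻¹ * b * g') :=
      congrArg Subtype.val (mem_center_iff.1 ha ⟨_, h4⟩)
    calc (b : ↥(centralizer ({w} : Set G))) * (g' * a * g'⁻¹) = g' * ((g'⁻¹ * b * g') * a) * g'⁻¹ := by group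
      _ = g' * (a * (g'⁻¹ * b * g')) * g'⁻¹ := by rw [h5]
      _ = _ := by group
  · rw [Subgroup.orderOf_coe, Subgroup.orderOf_coe, Subgroup.orderOf_coe, hzo]
  · rintro _ ⟨u, -, rfl⟩
    exact u.2

/-- **The main lemma.** -/
theorem cases_of_core [Finite G] (L : MT n G) {w : G} {p : ℕ} (hp2 : Odd p) (hw : w ^ p = 1)
    (h : pCore 2 ↥(centralizer ({w} : Set G)) ≠ ⊥) :
    ∃ (L' : MT n G) (hwt : w * L'.t = L'.t * w), (L'.K.π ⟨w, L'.mem_iff.2 hwt⟩).support.card + 8 ≤ n ∨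
      centralizer ({w} : Set G) ≤ centralizer ({L'.t} : Set G) := by
  obtain ⟨Z, t, hZ, hZC, htZ, hto, hZw⟩ := exists_of_core h
  obtain ⟨h1, h2⟩ := MT.sq_of_orderOf hto
  obtain ⟨L', rfl⟩ := L.exists_rebase h1 h2
  have hwt : w * L'.t = L'.t * w := (mem_centralizer_singleton_iff.1 (hZw htZ)).symm
  refine ⟨L', hwt, ?_⟩
  rcases Nat.lt_or_ge n ((L'.K.π ⟨w, L'.mem_iff.2 hwt⟩).support.card + 8) with h3 | h3
  · exact Or.inr (le_of_abelian L' hp2 hw hwt Z hZ hZC htZ hZw h3)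
  · exact Or.inl h3

/-- the order of the centralizer of the involution -/
theorem card_cent_t [Finite G] (L : MT n G) (hn : 2 ≤ n) :
    Nat.card ↥(centralizer ({L.t} : Set G)) = n.factorial := by
  have h1 := Subgroup.card_mul_index L.K.π.ker
  rw [Subgroup.index_ker, L.K.range_eq] at h1
  have h2 : Nat.card L.K.π.ker = 2 := by
    rw [Nat.card_eq_two_iff]
    refine ⟨1, ⟨L.K.z, L.K.π_z⟩, fun h => L.K.z_ne (congrArg Subtype.val h).symm, ?_⟩
    ext ⟨a, ha⟩
    simp only [Set.mem_insert_iff, Set.mem_singleton_iff, Set.mem_univ, iff_true]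
    rcases (L.K.ker a).1 ha with h | h
    · exact Or.inl (Subtype.ext h)
    · exact Or.inr (Subtype.ext h)
  have h3 : Nontrivial (Fin n) := Fin.nontrivial_iff_two_le.2 hn
  rw [← h1, h2, two_mul_nat_card_alternatingGroup, Nat.card_perm, Nat.card_eq_fintype_card, Fintype.card_fin]

theorem support_pos (L : MT n G) {w : G} (h1 : w ≠ 1) (h2 : orderOf w ≠ 2) (hwt : w * L.t = L.t * w) :
    (L.K.π ⟨w, L.mem_iff.2 hwt⟩).support.card ≠ 0 := by
  intro h
  rcases (L.K.ker _).1 (Perm.card_support_eq_zero.1 h) with h3 | h3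
  · exact h1 (congrArg Subtype.val h3)
  · apply h2
    have h4 : w = L.t := (congrArg Subtype.val h3).trans L.hz
    rw [h4, L.orderOf_t]

end Cfsg.Agent.H47.Wk.AltCore
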