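import Cfsg.Agent.H509.Weak

/-!
# S4095 at the prime 2: rows by counting (helper47)

* `row_of_count` : **the row at 2 for `L` from a subgroup `Q` of odd order, if every element `w` of odd prime order
  satisfies `O_2(C(w)) = 1`, or its order belongs to a set `E` of exceptional primes and `|C(w)| < |Q|`, and the
  `{2} ∪ E`-part of `|L|` is smaller than `|Q|`** (no 2-blocks, no outer automorphisms);
* `pCore_eq_bot_of_card` : `O_2(C(w)) = 1` if `|C(w)| = 2 m`, `m` odd, and no involution of `C(w)` centralizes `C(w)`.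
-/

set_option autoImplicit false

namespace Cfsg.Agent.H47.Wk

open Subgroup Cfsg Cfsg.Agent.H516 Cfsg.Agent.H509.Weak

universe u

/-- **The row at 2 by counting.** -/
theorem row_of_count {L : Type u} [Group L] [Finite L] (B : Base L) (Q : Subgroup L) (hQ : Odd (Nat.card Q))
    (E : Set ℕ) (K N : ℕ) (hL : Nat.card L = K * N) (h2N : ¬ 2 ∣ N) (hEN : ∀ r ∈ E, ¬ r ∣ N) (hK0 : K ≠ 0)
    (hKQ : K < Nat.card Q)
    (hw : ∀ w : L, (orderOf w).Prime → orderOf w ≠ 2 →
      pCore 2 ↥(centralizer ({w} : Set L)) = ⊥ ∨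
        (orderOf w ∈ E ∧ Nat.card (centralizer ({w} : Set L)) < Nat.card Q)) : Row 2 L := by
  rw [row_iff]
  intro a ha
  by_contra hne
  have W : Wk a := { B with bad := ha, ne := hne }
  have hA : FactA L := ⟨Q, hQ, fun w h1 h2 => (hw w h1 h2).imp id And.right⟩
  obtain ⟨n, hn⟩ := W.two_of_factA hA
  have h1 := W.card_le hQ
  obtain ⟨d, hd⟩ : ∃ d, Nat.card (fixedSubgroup a) = d := ⟨_, rfl⟩
  have hprime : ∀ r : ℕ, r.Prime → r ∣ d → r = 2 ∨ r ∈ E := by
    intro r hr hrd
    have : Fact r.Prime := ⟨hr⟩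
    obtain ⟨y, hy⟩ := exists_prime_orderOf_dvd_card' (G := fixedSubgroup a) r (by rw [hd]; exact hrd)
    have hyo : orderOf (y : L) = r := by rw [Subgroup.orderOf_coe, hy]
    by_cases hr2 : r = 2
    · exact Or.inl hr2
    right
    rcases hw y (by rw [hyo]; exact hr) (by rw [hyo]; exact hr2) with h2 | h2
    · exfalso
      refine W.false_of_fix hn (y := (y : L)) ?_ y.2 h2
      intro h3
      rw [h3, orderOf_one] at hyo
      exact hr.one_lt.ne hyo
    · rw [← hyo]
      exact h2.1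
  have hcop : Nat.Coprime d N := by
    apply Nat.Coprime.symm
    rw [Nat.coprime_iff_gcd_eq_one]
    by_contra hcon
    obtain ⟨r, hr, hrg⟩ := Nat.exists_prime_and_dvd hcon
    rcases hprime r hr (hrg.trans (Nat.gcd_dvd_right _ _)) with h2 | h2
    · rw [h2] at hrg
      exact h2N (hrg.trans (Nat.gcd_dvd_left _ _))
    · exact hEN r h2 (hrg.trans (Nat.gcd_dvd_left _ _))
  have h2 : d ∣ K * N := by
    rw [← hL, ← hd]
    exact Subgroup.card_subgroup_dvd_card _
  have h3 := Nat.le_of_dvd (Nat.pos_of_ne_zero hK0) (hcop.dvd_of_dvd_mul_right h2)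
  omega

/-- If `|H|` is odd then `O_2(H) = 1`. -/
theorem pCore_eq_bot_of_odd {H : Type*} [Group H] [Finite H] (h : Odd (Nat.card H)) : pCore 2 H = ⊥ := by
  have h1 := (Lib.Cores.pCore_isPGroup (G := H) 2)
  have : Fact (Nat.Prime 2) := ⟨Nat.prime_two⟩
  obtain ⟨n, hn⟩ := IsPGroup.iff_card.1 h1
  have h2 : 2 ^ n ∣ Nat.card H := by
    rw [← hn]
    exact Subgroup.card_subgroup_dvd_card _
  have h3 : n = 0 := by
    by_contra h0
    have h4 : 2 ∣ Nat.card H := (dvd_pow_self 2 h0).trans h2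
    exact (Nat.not_even_iff_odd.2 h) (even_iff_two_dvd.2 h4)
  rw [h3, pow_zero] at hn
  exact Subgroup.card_eq_one.1 hn

/-- `O_2(H) = 1` if `|H| = 2 m`, `m` odd, and `H` has no central involution. -/
theorem pCore_eq_bot_of_two {H : Type*} [Group H] [Finite H] {m : ℕ} (hm : Odd m) (h : Nat.card H = 2 * m)
    (hz : ∀ t : H, orderOf t = 2 → ∃ s : H, s * t ≠ t * s) : pCore 2 H = ⊥ := by
  have h1 := (Lib.Cores.pCore_isPGroup (G := H) 2)
  have hN := (Lib.Cores.pCore_normal (G := H) 2)
  have : Fact (Nat.Prime 2) := ⟨Nat.prime_two⟩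
  obtain ⟨n, hn⟩ := IsPGroup.iff_card.1 h1
  have h2 : 2 ^ n ∣ 2 * m := by
    rw [← hn, ← h]
    exact Subgroup.card_subgroup_dvd_card _
  rcases n with _ | _ | n
  · rw [pow_zero] at hn
    exact Subgroup.card_eq_one.1 hn
  · exfalso
    rw [zero_add, pow_one] at hn
    obtain ⟨⟨t, ht⟩, hto⟩ := exists_prime_orderOf_dvd_card' (G := pCore 2 H) 2 (by rw [hn])
    rw [Subgroup.orderOf_mk] at hto
    obtain ⟨s, hs⟩ := hz t hto
    have ht1 : t ≠ 1 := by
      rintro rfl
      rw [orderOf_one] at hto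
      norm_num at hto
    apply hs
    have h3 := hN.conj_mem t ht s
    have h4 : (⟨s * t * s⁻¹, h3⟩ : pCore 2 H) = ⟨t, ht⟩ := by
      have h5 : Nat.card (pCore 2 H) = 2 := hn
      obtain ⟨x, y, hxy, hall⟩ := Nat.card_eq_two_iff.1 h5
      have h6 : ∀ z : pCore 2 H, z ≠ 1 → z = ⟨t, ht⟩ := by
        intro z hz1
        have hz' : z = x ∨ z = y := by
          have : z ∈ ({x, y} : Set (pCore 2 H)) := by rw [hall]; trivial
          exact this
        have h1' : (1 : pCore 2 H) = x ∨ (1 : pCore 2 H) = y := by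
          have : (1 : pCore 2 H) ∈ ({x, y} : Set (pCore 2 H)) := by rw [hall]; trivial
          exact this
        have ht' : (⟨t, ht⟩ : pCore 2 H) = x ∨ (⟨t, ht⟩ : pCore 2 H) = y := by
          have : (⟨t, ht⟩ : pCore 2 H) ∈ ({x, y} : Set (pCore 2 H)) := by rw [hall]; trivial
          exact this
        have ht1' : (⟨t, ht⟩ : pCore 2 H) ≠ 1 := fun h => ht1 (congrArg Subtype.val h)
        rcases h1' with h1' | h1' <;> rcases hz' with hz' | hz' <;> rcases ht' with ht' | ht' <;>
          simp_all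
      apply h6
      intro h7
      apply ht1
      have h8 : s * t * s⁻¹ = 1 := congrArg Subtype.val h7
      rw [mul_inv_eq_one] at h8
      exact mul_eq_left.1 h8
    have h5 : s * t * s⁻¹ = t := congrArg Subtype.val h4
    exact mul_inv_eq_iff_eq_mul.1 h5
  · exfalso
    have h3 : 2 ^ 2 ∣ 2 * m := (pow_dvd_pow 2 (by omega)).trans h2
    obtain ⟨c, hc⟩ := hm
    omega

theorem pCore_map_le {A B : Type*} [Group A] [Group B] {p : ℕ} (f : A →* B) (hf : Function.Surjective f) :
    (pCore p A).map f ≤ pCore p B :=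
  Lib.Cores.le_pCore ((Lib.Cores.pCore_normal (G := A) p).map f hf) ((Lib.Cores.pCore_isPGroup (G := A) p).map f)

/-- `O_2(H) = 1` if all involutions `t` of `H` have `|C_H(t)| = m` with `4 ∤ m`, and `H` has an element `a` of order `n`,
`n ∤ m`. -/
theorem pCore_eq_bot_of_small {H : Type*} [Group H] [Finite H] {m n : ℕ} {a : H} (ha : orderOf a = n) (hn : ¬ n ∣ m)
    (hm : ¬ 4 ∣ m) (hc : ∀ t : H, orderOf t = 2 → Nat.card (centralizer ({t} : Set H)) = m) : pCore 2 H = ⊥ := by
  have h1 := (Lib.Cores.pCore_isPGroup (G := H) 2)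
  have hN := (Lib.Cores.pCore_normal (G := H) 2)
  have : Fact (Nat.Prime 2) := ⟨Nat.prime_two⟩
  by_contra hcon
  have hnt : Nontrivial (pCore 2 H) := (Subgroup.nontrivial_iff_ne_bot _).2 hcon
  have hz := h1.center_nontrivial
  -- a central involution of `O_2(H)`
  have hzp : IsPGroup 2 (center ↥(pCore 2 H)) := h1.to_subgroup _
  obtain ⟨k, hk⟩ := IsPGroup.iff_card.1 hzp
  have hk0 : k ≠ 0 := by
    rintro rfl
    have h2 : 1 < Nat.card (center ↥(pCore 2 H)) := Finite.one_lt_card
    rw [hk] at h2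
    norm_num at h2
  obtain ⟨z, hzo⟩ := exists_prime_orderOf_dvd_card' (G := center ↥(pCore 2 H)) 2 (by rw [hk]; exact dvd_pow_self 2 hk0)
  set t : H := ((z : pCore 2 H) : H) with ht
  have hto : orderOf t = 2 := by rw [ht, Subgroup.orderOf_coe, Subgroup.orderOf_coe, hzo]
  have hle : pCore 2 H ≤ centralizer ({t} : Set H) := by
    intro s hs
    rw [mem_centralizer_singleton_iff]
    exact congrArg Subtype.val (mem_center_iff.1 z.2 ⟨s, hs⟩)
  obtain ⟨j, hj⟩ := IsPGroup.iff_card.1 h1
  have h2 : 2 ^ j ∣ m := by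
    rw [← hj, ← hc t hto]
    exact Subgroup.card_dvd_of_le hle
  have h3 : j = 1 := by
    have h4 : j ≠ 0 := by
      rintro rfl
      rw [pow_zero] at hj
      exact hcon (Subgroup.card_eq_one.1 hj)
    by_contra h5
    exact hm ((pow_dvd_pow 2 (show 2 ≤ j by omega)).trans h2)
  have hcore : pCore 2 H = zpowers t := by
    symm
    apply Subgroup.eq_of_le_of_card_ge
    · rw [zpowers_le]
      exact (z : pCore 2 H).2
    · rw [hj, h3, Nat.card_zpowers, hto, pow_one]
  have h4 : a * t * a⁻¹ ∈ zpowers t := by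
    rw [← hcore]
    exact hN.conj_mem t (z : pCore 2 H).2 a
  have h5 : a * t * a⁻¹ = t := by
    obtain ⟨i, hi⟩ := h4
    have hi' : t ^ i = a * t * a⁻¹ := hi
    rcases Int.even_or_odd i with h6 | h6
    · exfalso
      obtain ⟨c, rfl⟩ := h6
      have h7 : t ^ (c + c) = 1 := by
        rw [← two_mul, zpow_mul]
        have : t ^ (2 : ℤ) = 1 := by
          have h8 := pow_orderOf_eq_one t
          rw [hto] at h8
          exact_mod_cast h8
        rw [this, one_zpow]
      rw [h7] at hi'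
      have h8 : t = 1 := by
        have h9 : a * t = a := by
          rw [eq_comm, mul_inv_eq_one] at hi'
          exact hi'
        exact mul_eq_left.1 h9
      rw [h8, orderOf_one] at hto
      norm_num at hto
    · obtain ⟨c, rfl⟩ := h6
      rw [← hi', zpow_add, zpow_mul, zpow_one]
      have : t ^ (2 : ℤ) = 1 := by
        have h8 := pow_orderOf_eq_one t
        rw [hto] at h8
        exact_mod_cast h8
      rw [this, one_zpow, one_mul]
  apply hn
  rw [← ha, ← hc t hto]
  have h6 : a ∈ centralizer ({t} : Set H) := mem_centralizer_singleton_iff.2 (mul_inv_eq_iff_eq_mul.1 h5)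
  have h7 := orderOf_dvd_natCard (⟨a, h6⟩ : ↥(centralizer ({t} : Set H)))
  rwa [Subgroup.orderOf_mk] at h7

/-- centralizers in centralizers -/
theorem card_sub_eq {K : Type*} [Group K] {x : K} (t : ↥(centralizer ({x} : Set K))) :
    Nat.card ↥(centralizer ({t} : Set ↥(centralizer ({x} : Set K)))) =
      Nat.card ↥(centralizer ({(t : K)} : Set K) ⊓ centralizer ({x} : Set K)) := by
  refine Nat.card_congr ⟨fun a => ⟨a.1, mem_centralizer_singleton_iff.2
      (congrArg Subtype.val (mem_centralizer_singleton_iff.1 a.2)), a.1.2⟩,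
    fun a => ⟨⟨a.1, a.2.2⟩, mem_centralizer_singleton_iff.2 (Subtype.ext (mem_centralizer_singleton_iff.1 a.2.1))⟩,
    fun _ => rfl, fun _ => rfl⟩

end Cfsg.Agent.H47.Wk
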