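import Cfsg.Agent.H47.Wk.Count
import Cfsg.Agent.H898.J3Cent
import Cfsg.Agent.J2Type.COdd
import Cfsg.Agent.CpAutJThree.Row
import Cfsg.Agent.S0497

/-!
# S4095 at the prime 2: `J₃` (helper47)
-/

set_option autoImplicit false

namespace Cfsg.Agent.H47.Wk.JThree

open Subgroup Cfsg Cfsg.Agent.H509.Weak

universe u

variable {K : Type u} [Group K]

theorem pCore_alt6 : pCore 2 (alternatingGroup (Fin 6)) = ⊥ := by
  have hs : IsSimpleGroup (alternatingGroup (Fin 6)) := alternatingGroup.isSimpleGroup (by simp)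
  rcases (Lib.Cores.pCore_normal (G := alternatingGroup (Fin 6)) 2).eq_bot_or_eq_top with h | h
  · exact h
  · exfalso
    have : Fact (Nat.Prime 2) := ⟨Nat.prime_two⟩
    obtain ⟨n, hn⟩ := IsPGroup.iff_card.1 (Lib.Cores.pCore_isPGroup (G := alternatingGroup (Fin 6)) 2)
    rw [h, Subgroup.card_top, nat_card_alternatingGroup] at hn
    have h1 : (3 : ℕ) ∣ 2 ^ n := by
      rw [← hn]
      simp [Nat.factorial]
    have h2 := Nat.prime_three.dvd_of_dvd_pow h1
    norm_num at h2

/-- the centralizer of an element of order 3 with 1080 commuting elements, modulo it, is `A₆` -/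
theorem exists_iso [Finite K] (h : Spor.IsoJ3 K) {x : K} (hx : orderOf x = 3)
    (hC : Nat.card ↥(centralizer ({x} : Set K)) = 1080) :
    ∃ π : centralizer ({x} : Set K) →* alternatingGroup (Fin 6), Function.Surjective π ∧ Nat.card π.ker = 3 := by
  obtain ⟨hcard, hM, hone, -⟩ := CpAutJThree.base h
  have hp2 : Fact (Nat.Prime 2) := ⟨Nat.prime_two⟩
  have memC : ∀ a : K, a ∈ centralizer ({x} : Set K) ↔ a * x = x * a := fun a => mem_centralizer_singleton_iff
  let c : centralizer ({x} : Set K) := ⟨x, (memC x).2 rfl⟩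
  have hc3 : orderOf c = 3 := by rw [← hx]; exact orderOf_mk _ _
  have hcc : ∀ a : centralizer ({x} : Set K), a * c = c * a := fun a => Subtype.ext ((memC a).1 a.2)
  have hZn : (zpowers c).Normal := by
    constructor
    rintro n ⟨k, rfl⟩ g
    refine ⟨k, ?_⟩
    have h1 : Commute g c := hcc g
    have := h1.zpow_right k
    show c ^ k = g * c ^ k * g⁻¹
    rw [this.eq]; group
  have hHD8 := J3Type.Extra.hd8_quotient c hc3 hcc (CpAutJThree.hD_of_model hM hx)
  have hq : Nat.card (↥(centralizer ({x} : Set K)) ⧸ zpowers c) = 360 := by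
    have := card_eq_card_quotient_mul_card_subgroup (zpowers c)
    rw [hC, Nat.card_zpowers, hc3] at this
    omega
  obtain ⟨s', hs'⟩ := exists_prime_orderOf_dvd_card' (G := ↥(centralizer ({x} : Set K)) ⧸ zpowers c) 2
    (by rw [hq]; norm_num)
  have hsim := J3Type.Extra.isSimple hHD8 hs'
  obtain ⟨e⟩ := Cfsg.Agent.S0497.result hq
  refine ⟨e.toMonoidHom.comp (QuotientGroup.mk' (zpowers c)), ?_, ?_⟩
  · exact e.surjective.comp (QuotientGroup.mk'_surjective _)
  · have h1 : (e.toMonoidHom.comp (QuotientGroup.mk' (zpowers c))).ker = zpowers c := by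
      ext a
      rw [MonoidHom.mem_ker, MonoidHom.comp_apply]
      show e _ = 1 ↔ _
      rw [map_eq_one_iff e e.injective]
      exact QuotientGroup.eq_one_iff a
    rw [h1, Nat.card_zpowers, hc3]

theorem three (h : Spor.IsoJ3 K) {x : K} (hx : orderOf x = 3) : pCore 2 ↥(centralizer ({x} : Set K)) = ⊥ := by
  obtain ⟨hcard, hM, hone, -⟩ := CpAutJThree.base h
  have hfin : Finite K := Nat.finite_of_card_ne_zero (by rw [hcard]; norm_num)
  have : Fact (Nat.Prime 2) := ⟨Nat.prime_two⟩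
  by_cases hd : 2 ∣ Nat.card ↥(centralizer ({x} : Set K))
  · obtain ⟨t, ht⟩ := exists_prime_orderOf_dvd_card' 2 hd
    have ht' : orderOf (t : K) = 2 := by rw [← ht]; exact Subgroup.orderOf_coe t
    obtain ⟨c0, hc0, ⟨s, hs, hsc⟩, hc0c⟩ := CpAutJThree.exc h
    obtain ⟨g, hg⟩ := CpAutJThree.conj_three hM hone hc0 hx hs ht' hsc (mem_centralizer_singleton_iff.1 t.2)
    have hC : Nat.card ↥(centralizer ({x} : Set K)) = 1080 := by
      rw [← CpAutJThree.card_centralizer_conj g hg]; exact hc0c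
    obtain ⟨π, hπ, hker⟩ := exists_iso h hx hC
    have h1 := pCore_map_le (p := 2) π hπ
    rw [pCore_alt6, le_bot_iff, Subgroup.map_eq_bot_iff] at h1
    obtain ⟨n, hn⟩ := IsPGroup.iff_card.1 (Lib.Cores.pCore_isPGroup (G := ↥(centralizer ({x} : Set K))) 2)
    have h2 := Subgroup.card_dvd_of_le h1
    rw [hn, hker] at h2
    rcases (Nat.dvd_prime Nat.prime_three).1 h2 with h3 | h3
    · rw [h3] at hn
      exact Subgroup.card_eq_one.1 hn
    · have h4 : 3 ∣ 2 ^ n := by rw [h3]
      have h5 := Nat.prime_three.dvd_of_dvd_pow h4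
      norm_num at h5
  · exact pCore_eq_bot_of_odd (Nat.not_even_iff_odd.1 fun h => hd h.two_dvd)

/-- commuting elements of orders 2 and 5 -/
theorem card_two_five [Finite K] (h : Spor.IsoJ3 K) {t x : K} (ht : orderOf t = 2) (hx : orderOf x = 5)
    (hc : t * x = x * t) :
    Nat.card ↥(centralizer ({t} : Set K) ⊓ centralizer ({x} : Set K)) = 10 := by
  obtain ⟨-, -, hM⟩ := H898.J3Cent.base h
  obtain ⟨-, hcard, Q, v, ρ, M⟩ := hM t ht
  have hxC : x ∈ centralizer ({t} : Set K) := by rw [mem_centralizer_singleton_iff]; exact hc.symm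
  have h1 := J2Type.COdd.card_cent_five M hcard (c := ⟨x, hxC⟩) (by rw [Subgroup.orderOf_mk, hx])
  rw [← h1]
  refine Nat.card_congr ⟨fun a => ⟨⟨a.1, a.2.1⟩, Subtype.ext (mem_centralizer_singleton_iff.1 a.2.2)⟩,
    fun a => ⟨a.1.1, a.1.2, mem_centralizer_singleton_iff.2 (congrArg Subtype.val a.2)⟩, fun _ => rfl, fun _ => rfl⟩

/-- an element of order 3 commuting with an element of order 5 -/
theorem exists_three (h : Spor.IsoJ3 K) {x : K} (hx : orderOf x = 5) : ∃ u : K, orderOf u = 3 ∧ u * x = x * u := by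
  obtain ⟨hcard, hM, hone, -⟩ := CpAutJThree.base h
  have hfin : Finite K := Nat.finite_of_card_ne_zero (by rw [hcard]; norm_num)
  have : Fact (Nat.Prime 5) := ⟨Nat.prime_five⟩
  obtain ⟨c, hc, -, hcC⟩ := CpAutJThree.exc h
  obtain ⟨⟨y, hyc⟩, hy⟩ := exists_prime_orderOf_dvd_card' (G := centralizer ({c} : Set K)) 5 (by rw [hcC]; norm_num)
  rw [orderOf_mk] at hy
  have hL : ∀ {z : K}, orderOf z = 5 → Nat.card (zpowers z) = 5 ^ (Nat.card K).factorization 5 := by
    intro z hz
    have h1 : (Nat.card K).factorization 5 = 1 := by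
      rw [hcard]
      have h2 : (50232960 : ℕ) = 5 ^ 1 * 10046592 := by norm_num
      rw [h2, Nat.factorization_mul (by norm_num) (by norm_num), Finsupp.add_apply,
        Nat.Prime.factorization_pow Nat.prime_five, Finsupp.single_eq_same,
        Nat.factorization_eq_zero_of_not_dvd (by norm_num)]
    rw [h1, Nat.card_zpowers, hz, pow_one]
  obtain ⟨g, hg⟩ := MulAction.exists_smul_eq K (Sylow.ofCard (zpowers x) (hL hx)) (Sylow.ofCard (zpowers y) (hL hy))
  have h1 : g * x * g⁻¹ ∈ zpowers y := by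
    have h2 : g * x * g⁻¹ ∈ (Sylow.ofCard (zpowers y) (hL hy) : Sylow 5 K) := by
      rw [← hg]
      exact ⟨x, mem_zpowers x, rfl⟩
    exact h2
  have h2 : c * (g * x * g⁻¹) = g * x * g⁻¹ * c := by
    obtain ⟨i, hi⟩ := h1
    have h3 : Commute c y := (mem_centralizer_singleton_iff.1 hyc).symm
    have h4 : c * y ^ i = y ^ i * c := (h3.zpow_right i).eq
    have hi' : y ^ i = g * x * g⁻¹ := hi
    rw [← hi']
    exact h4
  refine ⟨g⁻¹ * c * g, ?_, ?_⟩
  · have h4 : g⁻¹ * c * g = MulAut.conj g⁻¹ c := by simp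
    rw [h4, MulEquiv.orderOf_eq, hc]
  · calc g⁻¹ * c * g * x = g⁻¹ * (c * (g * x * g⁻¹)) * g := by group
      _ = g⁻¹ * (g * x * g⁻¹ * c) * g := by rw [h2]
      _ = _ := by group

theorem five (h : Spor.IsoJ3 K) {x : K} (hx : orderOf x = 5) : pCore 2 ↥(centralizer ({x} : Set K)) = ⊥ := by
  obtain ⟨hcard, hM, hone, -⟩ := CpAutJThree.base h
  have hfin : Finite K := Nat.finite_of_card_ne_zero (by rw [hcard]; norm_num)
  obtain ⟨u, hu, hux⟩ := exists_three h hx
  exact pCore_eq_bot_of_small (m := 10) (n := 3) (a := ⟨u, mem_centralizer_singleton_iff.2 hux⟩)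
    (by rw [Subgroup.orderOf_mk, hu]) (by norm_num) (by norm_num) fun t ht => by
    have ht' : orderOf (t : K) = 2 := by rw [Subgroup.orderOf_coe, ht]
    rw [← card_two_five h ht' hx (mem_centralizer_singleton_iff.1 t.2)]
    exact card_sub_eq t

/-- **S4095 at 2 for `J₃`.** -/
theorem row [Finite K] (h : Spor.IsoJ3 K) (B : Base K) : Cfsg.Agent.H516.Row 2 K := by
  have hcard := (H898.J3Cent.base h).2.1
  have : Fact (Nat.Prime 3) := ⟨Nat.prime_three⟩
  obtain ⟨Q, hQ⟩ := Sylow.exists_subgroup_card_pow_prime (G := K) 3 (n := 5) (by rw [hcard]; norm_num)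
  refine row_of_count B Q (by rw [hQ]; decide) ∅ 128 392445 (by rw [hcard]) (by norm_num)
    (fun r hr => absurd hr (Set.notMem_empty r)) (by norm_num) (by rw [hQ]; norm_num) fun w hw hw2 => Or.inl ?_
  have hd : orderOf w ∣ 50232960 := by
    rw [← hcard]
    exact orderOf_dvd_natCard w
  rcases H898.J3Cent.prime_dvd_card hw hd with h1 | h1 | h1 | h1 | h1
  · exact absurd h1 hw2
  · exact three h h1
  · exact five h h1
  · exact pCore_eq_bot_of_odd (by rw [(H898.J3Cent.seventeen h h1).1]; decide)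
  · exact pCore_eq_bot_of_odd (by rw [H898.J3Cent.card_nineteen h h1]; decide)

end Cfsg.Agent.H47.Wk.JThree
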