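import Cfsg.Agent.H47.Wk.AltCore
import Cfsg.Agent.CpAutLy.Row

/-!
# S4095 at the prime 2: `Ly` (helper47)
-/

set_option autoImplicit false

namespace Cfsg.Agent.H47.Wk.Ly

open Subgroup Equiv Cfsg Cfsg.Agent.H509.Weak Cfsg.Agent.TypeM.Two Cfsg.Agent.SporRec.TwoAn Cfsg.Agent.TypeM.McLFromLy
  Cfsg.Agent.CpAutLy Cfsg.Agent.CpAutLy.Types Cfsg.Agent.CpAutLy.Cov

universe u

/-! ### permutations -/

theorem eq_replicate {m : Multiset ℕ} (h : ∀ n ∈ m, n = 2 ∨ n = 4 ∨ n = 8) :
    m = Multiset.replicate (m.count 2) 2 + Multiset.replicate (m.count 4) 4 + Multiset.replicate (m.count 8) 8 := by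
  ext n
  rw [Multiset.count_add, Multiset.count_add, Multiset.count_replicate, Multiset.count_replicate,
    Multiset.count_replicate]
  by_cases hn : n ∈ m
  · rcases h n hn with rfl | rfl | rfl <;> simp
  · rw [Multiset.count_eq_zero_of_notMem hn]
    symm
    by_cases h2 : 2 = n
    · subst h2
      simp [Multiset.count_eq_zero_of_notMem hn]
    · by_cases h4 : 4 = n
      · subst h4
        simp [Multiset.count_eq_zero_of_notMem hn]
      · by_cases h8 : 8 = n
        · subst h8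
          simp [Multiset.count_eq_zero_of_notMem hn]
        · rw [if_neg h2, if_neg h4, if_neg h8]

theorem small {m : Multiset ℕ} (h : ∀ n ∈ m, n = 2 ∨ n = 4 ∨ n = 8) (hs : m.sum = 10) :
    m = {2, 2, 2, 2, 2} ∨ m = {4, 2, 2, 2} ∨ m = {4, 4, 2} ∨ m = {8, 2} := by
  have hm := eq_replicate h
  obtain ⟨a, ha⟩ : ∃ a, m.count 2 = a := ⟨_, rfl⟩
  obtain ⟨b, hb⟩ : ∃ b, m.count 4 = b := ⟨_, rfl⟩
  obtain ⟨c, hc⟩ : ∃ c, m.count 8 = c := ⟨_, rfl⟩
  rw [ha, hb, hc] at hm
  rw [hm, Multiset.sum_add, Multiset.sum_add, Multiset.sum_replicate, Multiset.sum_replicate,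
    Multiset.sum_replicate, smul_eq_mul, smul_eq_mul, smul_eq_mul] at hs
  have hcase : (a = 5 ∧ b = 0 ∧ c = 0) ∨ (a = 3 ∧ b = 1 ∧ c = 0) ∨ (a = 1 ∧ b = 2 ∧ c = 0) ∨
      (a = 1 ∧ b = 0 ∧ c = 1) := by omega
  rcases hcase with ⟨rfl, rfl, rfl⟩ | ⟨rfl, rfl, rfl⟩ | ⟨rfl, rfl, rfl⟩ | ⟨rfl, rfl, rfl⟩
  · left; rw [hm]; decide
  · right; left; rw [hm]; decide
  · right; right; left; rw [hm]; decide
  · right; right; right; rw [hm]; decide

theorem pow_two_mem {σ : Perm (Fin 11)} {k n : ℕ} (h : σ ^ 2 ^ k = 1) (hn : n ∈ σ.cycleType) :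
    n = 2 ∨ n = 4 ∨ n = 8 := by
  have h1 : n ∣ 2 ^ k := (Perm.dvd_of_mem_cycleType hn).trans (orderOf_dvd_of_pow_eq_one h)
  obtain ⟨j, -, rfl⟩ := (Nat.dvd_prime_pow Nat.prime_two).1 h1
  have h2 := Perm.two_le_of_mem_cycleType hn
  have h3 : 2 ^ j ≤ 11 := by
    refine (Perm.le_card_support_of_mem_cycleType hn).trans ((Finset.card_le_univ _).trans (by simp))
  have h4 : j ≤ 3 := by
    by_contra h5
    have : 2 ^ 4 ≤ 2 ^ j := Nat.pow_le_pow_right (by norm_num) (by omega)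
    omega
  have h5 : j ≠ 0 := by
    rintro rfl
    norm_num at h2
  have h6 : j = 1 ∨ j = 2 ∨ j = 3 := by omega
  rcases h6 with rfl | rfl | rfl <;> simp

/-- a 2-element of `S_11` with a large centralizer fixes 3 letters -/
theorem fixed_of_large {σ : Perm (Fin 11)} {k : ℕ} (h : σ ^ 2 ^ k = 1)
    (hc : 3840 < Nat.card ↥(centralizer ({σ} : Set (Perm (Fin 11))))) : σ.support.card ≤ 8 := by
  have h0 : ∀ n ∈ σ.cycleType, 2 ∣ n := by
    intro n hn
    rcases pow_two_mem h hn with rfl | rfl | rfl <;> decide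
  have h1 : 2 ∣ σ.cycleType.sum := Multiset.dvd_sum h0
  rw [σ.sum_cycleType] at h1
  have h2 : σ.support.card ≤ 11 := (Finset.card_le_univ _).trans (by simp)
  by_contra h3
  have h4 : σ.cycleType.sum = 10 := by
    rw [σ.sum_cycleType]
    omega
  rw [Equiv.Perm.nat_card_centralizer] at hc
  rcases small (fun n hn => pow_two_mem h hn) h4 with h5 | h5 | h5 | h5 <;> rw [h5] at hc <;> revert hc <;> decide

/-- the elements of prime order at least 5 -/
theorem card_le {C : Type*} [Group C] (K : Cover (Fin 11) C) {y : C} {p : ℕ} (hp : p.Prime) (h5 : 5 ≤ p)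
    (hy : y ^ p = 1) (h1 : y ≠ 1) : Nat.card ↥(centralizer ({y} : Set C)) ≤ 7200 := by
  have : Fact p.Prime := ⟨hp⟩
  have hodd : Odd p := hp.odd_of_ne_two (by omega)
  have hσ1 : K.π y ≠ 1 := π_ne_one K hodd hy h1
  obtain ⟨σ, hσ⟩ : ∃ σ, K.π y = σ := ⟨_, rfl⟩
  have hσp : σ ^ p = 1 := by rw [← hσ, ← map_pow, hy, map_one]
  have hct := Perm.cycleType_of_pow_prime_eq_one hσp
  have h2 : σ.cycleType.sum ≤ 11 := by
    rw [σ.sum_cycleType]
    exact (Finset.card_le_univ _).trans (by simp)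
  obtain ⟨k, hk⟩ : ∃ k, σ.cycleType.card = k := ⟨_, rfl⟩
  have hk1 : k ≠ 0 := by
    rintro rfl
    rw [hσ] at hσ1
    exact hσ1 (Perm.card_cycleType_eq_zero.1 hk)
  rw [hk] at hct
  rw [hct, Multiset.sum_replicate, smul_eq_mul] at h2
  have h3 : p ≤ 11 := by nlinarith [Nat.pos_of_ne_zero hk1]
  have h4 : (p = 5 ∧ k = 1) ∨ (p = 5 ∧ k = 2) ∨ (p = 7 ∧ k = 1) ∨ (p = 11 ∧ k = 1) := by
    have h6 : p = 5 ∨ p = 7 ∨ p = 11 := by
      interval_cases p
      · exact Or.inl rfl
      · exact absurd hp (by norm_num)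
      · exact Or.inr (Or.inl rfl)
      · exact absurd hp (by norm_num)
      · exact absurd hp (by norm_num)
      · exact absurd hp (by norm_num)
      · exact Or.inr (Or.inr rfl)
    rcases h6 with rfl | rfl | rfl <;> omega
  have h7 : Nat.card ↥(centralizer ({σ} : Set (Perm (Fin 11)))) ≤ 3600 := by
    rw [Equiv.Perm.nat_card_centralizer, hct]
    rcases h4 with ⟨rfl, rfl⟩ | ⟨rfl, rfl⟩ | ⟨rfl, rfl⟩ | ⟨rfl, rfl⟩ <;> decide
  have h8 := Nat.le_of_dvd (by
    have := Nat.card_pos (α := ↥(centralizer ({K.π y} : Set (Perm (Fin 11)))))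
    omega) (CpAut.Cyc.card_cent_dvd K y)
  rw [hσ] at h8
  omega

variable {K : Type u} [Group K]

/-- the element of order three -/
theorem exists_base (h : Spor.IsoLy K) : ∃ x s : K, orderOf x = 3 ∧ orderOf s = 2 ∧ s * x = x * s ∧ nn x s = 120960 ∧
    pCore 2 ↥(centralizer ({x} : Set K)) = ⊥ := by
  obtain ⟨e⟩ := h
  obtain ⟨x₀, h₀⟩ := Base.exists_three
  obtain ⟨s, hs, hsx, hn⟩ := Row.exists_base_nn h₀
  have hfin : Finite Cfsg.Spor.Ly := Cfsg.Agent.Ly.Setup.finite_ly
  have : Fact (Nat.Prime 2) := ⟨Nat.prime_two⟩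
  -- the core in the presented group
  have hcore : pCore 2 ↥(centralizer ({x₀} : Set Cfsg.Spor.Ly)) = ⊥ := by
    obtain ⟨-, hsim, hcard, -⟩ := TypeM.FactsMcL.facts h₀.quot
    have h1 := pCore_map_le (p := 2) (QuotientGroup.mk' (center ↥(centralizer ({x₀} : Set Cfsg.Spor.Ly))))
      (QuotientGroup.mk'_surjective _)
    have h2 : pCore 2 (↥(centralizer ({x₀} : Set Cfsg.Spor.Ly)) ⧸ center ↥(centralizer ({x₀} : Set Cfsg.Spor.Ly))) = ⊥ := by
      rcases (Lib.Cores.pCore_normal (G := ↥(centralizer ({x₀} : Set Cfsg.Spor.Ly)) ⧸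
        center ↥(centralizer ({x₀} : Set Cfsg.Spor.Ly))) 2).eq_bot_or_eq_top with h3 | h3
      · exact h3
      · exfalso
        obtain ⟨n, hn⟩ := IsPGroup.iff_card.1 (Lib.Cores.pCore_isPGroup (G := ↥(centralizer ({x₀} : Set Cfsg.Spor.Ly)) ⧸
          center ↥(centralizer ({x₀} : Set Cfsg.Spor.Ly))) 2)
        rw [h3, Subgroup.card_top, hcard] at hn
        have h4 : (3 : ℕ) ∣ 2 ^ n := by
          rw [← hn]
          norm_num
        have h5 := Nat.prime_three.dvd_of_dvd_pow h4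
        norm_num at h5
    rw [h2, le_bot_iff, Subgroup.map_eq_bot_iff, QuotientGroup.ker_mk'] at h1
    obtain ⟨n, hn⟩ := IsPGroup.iff_card.1 (Lib.Cores.pCore_isPGroup (G := ↥(centralizer ({x₀} : Set Cfsg.Spor.Ly))) 2)
    have h6 := Subgroup.card_dvd_of_le h1
    rw [hn, h₀.zcard] at h6
    rcases (Nat.dvd_prime Nat.prime_three).1 h6 with h7 | h7
    · rw [h7] at hn
      exact Subgroup.card_eq_one.1 hn
    · have h8 : 3 ∣ 2 ^ n := by rw [h7]
      have h9 := Nat.prime_three.dvd_of_dvd_pow h8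
      norm_num at h9
  have hmem : ∀ (x : Cfsg.Spor.Ly) (g : Cfsg.Spor.Ly), e.symm g ∈ centralizer ({e.symm x} : Set K) ↔
      g ∈ centralizer ({x} : Set Cfsg.Spor.Ly) := by
    intro x g
    rw [mem_centralizer_singleton_iff, mem_centralizer_singleton_iff, ← map_mul, ← map_mul, e.symm.injective.eq_iff]
  refine ⟨e.symm x₀, e.symm s, ?_, ?_, ?_, ?_, ?_⟩
  · rw [MulEquiv.orderOf_eq, h₀.ord]
  · rw [MulEquiv.orderOf_eq, hs]
  · rw [← map_mul, hsx, map_mul]
  · rw [← hn]
    symm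
    refine Nat.card_congr ⟨fun g => ⟨e.symm g.1, (hmem _ _).2 g.2.1, (hmem _ _).2 g.2.2⟩,
      fun g => ⟨e g.1, (hmem _ _).1 (by rw [e.symm_apply_apply]; exact g.2.1),
        (hmem _ _).1 (by rw [e.symm_apply_apply]; exact g.2.2)⟩,
      fun g => Subtype.ext (e.apply_symm_apply _), fun g => Subtype.ext (e.symm_apply_apply _)⟩
  · refine pCore_equiv (p := 2) (A := ↥(centralizer ({x₀} : Set Cfsg.Spor.Ly))) ?_ hcore
    exact
      { toFun := fun g => ⟨e.symm g.1, (hmem _ _).2 g.2⟩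
        invFun := fun g => ⟨e g.1, (hmem _ _).1 (by rw [e.symm_apply_apply]; exact g.2)⟩
        left_inv := fun g => Subtype.ext (e.apply_symm_apply _)
        right_inv := fun g => Subtype.ext (e.symm_apply_apply _)
        map_mul' := fun a b => Subtype.ext (map_mul e.symm a.1 b.1) }

/-- `O_2(C(x)) = 1` for the elements `x` of type `3` -/
theorem core_three [Finite K] (h : Spor.IsoLy K) {x t : K} (hx : orderOf x = 3) (ht : orderOf t = 2)
    (htx : t * x = x * t) (hn : nn x t = 120960) : pCore 2 ↥(centralizer ({x} : Set K)) = ⊥ := by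
  obtain ⟨-, -, -, ⟨L⟩⟩ := TypeM.FactsLy.facts h
  obtain ⟨y, s, hy, hs, hsy, hn', hc⟩ := exists_base h
  obtain ⟨g, hg⟩ := exists_conj_of_nn L hy hs hsy hn' hx ht htx hn
  exact pCore_equiv (p := 2) (McLThree.centEquiv hg) hc

/-- **The first fact.** -/
theorem factA [Finite K] (h : Spor.IsoLy K) : FactA K := by
  obtain ⟨-, -, hN, ⟨L⟩⟩ := TypeM.FactsLy.facts h
  have : Fact (Nat.Prime 5) := ⟨Nat.prime_five⟩
  obtain ⟨Q, hQ⟩ := Sylow.exists_subgroup_card_pow_prime (G := K) 5 (n := 6) (by rw [hN]; norm_num)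
  refine ⟨Q, by rw [hQ]; decide, ?_⟩
  intro w hw hw2
  by_contra hcon
  rw [not_or, not_lt, hQ] at hcon
  obtain ⟨hcore, hcard⟩ := hcon
  obtain ⟨p, hp⟩ : ∃ p, orderOf w = p := ⟨_, rfl⟩
  rw [hp] at hw hw2
  have hodd : Odd p := hw.odd_of_ne_two hw2
  have hwp : w ^ p = 1 := by rw [← hp]; exact pow_orderOf_eq_one w
  have hw1 : w ≠ 1 := by
    rintro rfl
    rw [orderOf_one] at hp
    exact hw.one_lt.ne hp
  obtain ⟨L', hwt, h1⟩ := AltCore.cases_of_core L hodd hwp hcore
  have hy : xc (x := w) (t := L'.t) hwt.symm ^ p = 1 := Subtype.ext hwp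
  have hy1 : xc (x := w) (t := L'.t) hwt.symm ≠ 1 := fun e => hw1 (congrArg Subtype.val e)
  by_cases hp3 : p = 3
  · subst hp3
    rcases cases L' hp hwt.symm with h2 | h2
    · exact hcore (core_three h hp L'.orderOf_t hwt.symm h2.2)
    · rcases h1 with h1 | h1
      · change (L'.K.π (xc (x := w) (t := L'.t) hwt.symm)).support.card + 8 ≤ 11 at h1
        rw [← Perm.sum_cycleType] at h1
        rcases h2 with h2 | h2 <;> rw [h2.1] at h1 <;> revert h1 <;> decide
      · have h3 : Nat.card ↥(centralizer ({w} : Set K)) = nn w L'.t := by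
          rw [nn, inf_eq_left.2 h1]
        rw [h3] at hcard
        rcases h2 with h2 | h2 <;> rw [h2.2] at hcard <;> norm_num at hcard
  · have hp5 : 5 ≤ p := by
      have h4 := hw.two_le
      by_contra h5
      have h6 : p = 2 ∨ p = 3 ∨ p = 4 := by omega
      rcases h6 with rfl | rfl | rfl
      · exact hw2 rfl
      · exact hp3 rfl
      · exact absurd hw (by norm_num)
    rcases h1 with h1 | h1
    · have : Fact p.Prime := ⟨hw⟩
      have h7 : L'.K.π (xc (x := w) (t := L'.t) hwt.symm) ≠ 1 := π_ne_one L'.K hodd hy hy1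
      have h8 : (L'.K.π (xc (x := w) (t := L'.t) hwt.symm)) ^ p = 1 := by rw [← map_pow, hy, map_one]
      have hct := Perm.cycleType_of_pow_prime_eq_one h8
      change (L'.K.π (xc (x := w) (t := L'.t) hwt.symm)).support.card + 8 ≤ 11 at h1
      rw [← Perm.sum_cycleType, hct, Multiset.sum_replicate, smul_eq_mul] at h1
      have h9 : (L'.K.π (xc (x := w) (t := L'.t) hwt.symm)).cycleType.card ≠ 0 := fun e =>
        h7 (Perm.card_cycleType_eq_zero.1 e)
      have h10 := Nat.mul_le_mul_right p (Nat.pos_of_ne_zero h9)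
      rw [Nat.succ_eq_add_one, zero_add, one_mul] at h10
      omega
    · have h3 : Nat.card ↥(centralizer ({w} : Set K)) = nn w L'.t := by
        rw [nn, inf_eq_left.2 h1]
      rw [h3, ← nn_eq hwt.symm] at hcard
      have h4 := card_le L'.K hw hp5 hy hy1
      omega

/-- **The row of `Ly` at the prime 2.** -/
theorem row [Finite K] (h : Spor.IsoLy K) (B : H509.Weak.Base K) : H516.Row 2 K := by
  obtain ⟨-, -, hN, ⟨L⟩⟩ := TypeM.FactsLy.facts h
  rw [H516.row_iff]
  intro a ha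
  by_contra hne
  have W : Wk a := { B with bad := ha, ne := hne }
  have hA := factA h
  obtain ⟨n, hn⟩ := W.two_of_factA hA
  obtain ⟨x, hx⟩ := TypeM.OutLyFin.inner h a
  have : Fact (Nat.Prime 5) := ⟨Nat.prime_five⟩
  obtain ⟨Q, hQ⟩ := Sylow.exists_subgroup_card_pow_prime (G := K) 5 (n := 6) (by rw [hN]; norm_num)
  have hcard := W.card_le (Q := Q) (by rw [hQ]; decide)
  have hfix : fixedSubgroup a = centralizer ({x} : Set K) := by
    ext y
    have h1 : y ∈ fixedSubgroup a ↔ a y = y := Iff.rfl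
    rw [h1, ← hx, MulAut.conj_apply, mem_centralizer_singleton_iff, mul_inv_eq_iff_eq_mul, eq_comm]
  rw [hfix, hQ] at hcard
  -- `x` is a 2-element, `x² ≠ 1`
  have hxp : x ^ 2 ^ n = 1 := by
    rw [← hx, ← map_pow] at hn
    exact H516.conj_injective B.center (by rw [hn, map_one])
  have hx2 : x * x ≠ 1 := by
    intro h1
    apply W.sq_ne_one
    rw [← hx, ← map_mul, h1, map_one]
  have hx1 : x ≠ 1 := by
    rintro rfl
    exact hx2 (mul_one 1)
  have hord : orderOf x ∣ 2 ^ n := orderOf_dvd_of_pow_eq_one hxp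
  have h2o : 2 ∣ orderOf x := by
    obtain ⟨j, -, hj⟩ := (Nat.dvd_prime_pow Nat.prime_two).1 hord
    rw [hj]
    apply dvd_pow_self
    rintro rfl
    rw [pow_zero, orderOf_eq_one_iff] at hj
    exact hx1 hj
  obtain ⟨t, htx, ht⟩ : ∃ t ∈ zpowers x, orderOf t = 2 := by
    have : Fact (Nat.Prime 2) := ⟨Nat.prime_two⟩
    obtain ⟨t, ht⟩ := exists_prime_orderOf_dvd_card' (G := zpowers x) 2 (by rw [Nat.card_zpowers]; exact h2o)
    exact ⟨t, t.2, by rw [Subgroup.orderOf_coe, ht]⟩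
  obtain ⟨h1, h2⟩ := MT.sq_of_orderOf ht
  obtain ⟨L', rfl⟩ := L.exists_rebase h1 h2
  have htx' : L'.t * x = x * L'.t := by
    obtain ⟨i, hi⟩ := htx
    have hi' : x ^ i = L'.t := hi
    rw [← hi']
    exact ((Commute.refl x).zpow_left i).eq
  have hle : centralizer ({x} : Set K) ≤ centralizer ({L'.t} : Set K) := by
    intro y hy
    obtain ⟨i, hi⟩ := htx
    have hi' : x ^ i = L'.t := hi
    rw [mem_centralizer_singleton_iff] at hy ⊢
    rw [← hi']
    exact (show Commute y x from hy).zpow_right i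
  have hnn : Nat.card ↥(centralizer ({x} : Set K)) = nn x L'.t := by
    rw [nn, inf_eq_left.2 hle]
  obtain ⟨σ, hσ⟩ : ∃ σ, L'.K.π (xc htx') = σ := ⟨_, rfl⟩
  have hσ2 : σ ^ 2 ^ n = 1 := by
    rw [← hσ, ← map_pow, show (xc htx') ^ 2 ^ n = 1 from Subtype.ext hxp, map_one]
  have hσ1 : σ ≠ 1 := by
    intro h3
    rw [h3] at hσ
    rcases (L'.K.ker _).1 hσ with h4 | h4
    · exact hx1 (congrArg Subtype.val h4)
    · apply hx2
      have h5 : x = L'.t := (congrArg Subtype.val h4).trans L'.hz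
      rw [h5, L'.t_mul_t]
  have hodd : HasOdd (L'.K.π (xc htx')) := by
    rw [hσ]
    obtain ⟨m, hm⟩ : ∃ m, m ∈ σ.cycleType := by
      apply Multiset.exists_mem_of_ne_zero
      intro h3
      exact hσ1 (Perm.cycleType_eq_zero.1 h3)
    refine hasOdd_of_mem (n := m) ?_ hm
    rcases pow_two_mem hσ2 hm with rfl | rfl | rfl <;> decide
  have hdvd := card_dvd L'.K hodd
  rw [nn_eq htx', ← hnn, hσ] at hdvd
  have hlarge := Nat.le_of_dvd Nat.card_pos hdvd
  have hsup := fixed_of_large hσ2 (by omega)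
  -- three fixed letters
  have h3 : 2 < (Finset.univ \ σ.support).card := by
    rw [Finset.card_sdiff_of_subset (Finset.subset_univ _), Finset.card_univ, Fintype.card_fin]
    omega
  obtain ⟨i, hi, j, hj, k, hk, hij, hik, hjk⟩ := Finset.two_lt_card.1 h3
  rw [Finset.mem_sdiff, Perm.mem_support, not_not] at hi hj hk
  have hcyc : (swap i j * swap j k).cycleType = {3} := by
    have h4 : (swap i j * swap j k).IsThreeCycle := by
      rw [swap_comm i j]
      exact Perm.isThreeCycle_swap_mul_swap_same hij.symm hjk hik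
    exact h4
  have hcyc3 : (swap i j * swap j k : Perm (Fin 11)) ^ 3 = 1 := by
    rw [← orderOf_dvd_iff_pow_eq_one, ← Perm.lcm_cycleType, hcyc]
    decide
  have hev : (swap i j * swap j k : Perm (Fin 11)) ∈ alternatingGroup (Fin 11) := by
    rw [Perm.mem_alternatingGroup, map_mul, Perm.sign_swap hij, Perm.sign_swap hjk]
    decide
  obtain ⟨y, hy, hy3⟩ := L'.K.exists_odd_lift hev (n := 3) (by decide) hcyc3
  have hdis : (L'.K.π y).Disjoint (L'.K.π (xc htx')) := by
    rw [hy, hσ]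
    intro l
    by_cases h4 : l = i
    · right; rw [h4]; exact hi.2
    by_cases h5 : l = j
    · right; rw [h5]; exact hj.2
    by_cases h6 : l = k
    · right; rw [h6]; exact hk.2
    left
    rw [Perm.mul_apply, swap_apply_of_ne_of_ne h5 h6, swap_apply_of_ne_of_ne h4 h5]
  have hyx := L'.K.commute_of_disjoint hdis
  have hyx' : (y : K) * x = x * y := congrArg Subtype.val hyx
  have hy1 : y ≠ 1 := by
    rintro rfl
    rw [map_one] at hy
    rw [← hy, Perm.cycleType_one] at hcyc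
    exact absurd hcyc (by decide)
  have hyo : orderOf (y : K) = 3 := by
    rw [Subgroup.orderOf_coe]
    exact orderOf_eq_prime hy3 hy1
  have hty : L'.t * y = y * L'.t := (mem_centralizer_singleton_iff.1 y.2).symm
  have hny : nn (y : K) L'.t = 120960 := by
    rw [← nn_eq hty]
    exact card_one L'.K hy3 (by
      change (L'.K.π y).cycleType = {3}
      rw [hy, hcyc])
  refine W.false_of_fix hn (y := (y : K)) (fun h4 => hy1 (Subtype.ext h4)) ?_
    (core_three h hyo L'.orderOf_t hty hny)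
  rw [← hx, MulAut.conj_apply, ← hyx', mul_inv_cancel_right]

end Cfsg.Agent.H47.Wk.Ly
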