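import Cfsg.Agent.H47.Wk.AltCore
import Cfsg.Agent.H47.Wk.McLThree
import Cfsg.Agent.H904.McLCent
import Cfsg.Agent.TypeM.FactsMcL

/-!
# S4095 at the prime 2: `McL` (helper47)
-/

set_option autoImplicit false

namespace Cfsg.Agent.H47.Wk.McL

open Subgroup Cfsg Cfsg.Agent.H509.Weak Cfsg.Agent.TypeM.Two Cfsg.Agent.SporRec.TwoAn Cfsg.Agent.H904

universe u

/-- centralizers in `p`-groups -/
theorem sq_dvd {P : Type*} [Group P] [Finite P] {p : ℕ} [hp : Fact p.Prime] (hP : IsPGroup p P) (h2 : p ^ 2 ∣ Nat.card P)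
    (x : P) : p ^ 2 ∣ Nat.card ↥(centralizer ({x} : Set P)) := by
  obtain ⟨k, hk⟩ := IsPGroup.iff_card.1 (hP.to_subgroup (centralizer ({x} : Set P)))
  rcases Nat.lt_or_ge k 2 with h | h
  · have hnt : Nontrivial P := by
      rw [← Finite.one_lt_card_iff_nontrivial]
      have h3 := Nat.le_of_dvd Nat.card_pos h2
      have h4 := hp.out.two_le
      nlinarith
    have hz := hP.center_nontrivial
    have hle : center P ≤ centralizer ({x} : Set P) := center_le_centralizer _
    obtain ⟨j, hj⟩ := IsPGroup.iff_card.1 (hP.to_subgroup (center P))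
    have h1 : 1 < Nat.card (center P) := Finite.one_lt_card
    have hj0 : j ≠ 0 := by
      rintro rfl
      rw [hj, pow_zero] at h1
      exact lt_irrefl _ h1
    have h3 : center P = centralizer ({x} : Set P) := by
      apply Subgroup.eq_of_le_of_card_ge hle
      rw [hj, hk]
      exact Nat.pow_le_pow_right hp.out.pos (by omega)
    have h4 : x ∈ center P := by
      rw [h3]
      exact mem_centralizer_singleton_iff.2 rfl
    have h5 : centralizer ({x} : Set P) = ⊤ := by
      rw [eq_top_iff]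
      intro y _
      exact mem_centralizer_singleton_iff.2 (mem_center_iff.1 h4 y)
    rw [h5, Subgroup.card_top]
    exact h2
  · rw [hk]
    exact pow_dvd_pow p h

variable {K : Type u} [Group K]

/-- transport along inclusions -/
theorem card_cent_dvd_of_le {P : Subgroup K} (x : P) :
    Nat.card ↥(centralizer ({x} : Set P)) ∣ Nat.card ↥(centralizer ({(x : K)} : Set K)) := by
  have h1 : (centralizer ({x} : Set P)).map P.subtype ≤ centralizer ({(x : K)} : Set K) := by
    rintro _ ⟨y, hy, rfl⟩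
    exact mem_centralizer_singleton_iff.2 (congrArg Subtype.val (mem_centralizer_singleton_iff.1 hy))
  have h2 := Subgroup.card_dvd_of_le h1
  rwa [Subgroup.card_map_of_injective P.subtype_injective] at h2

theorem card_cent_conj (g w : K) : Nat.card ↥(centralizer ({g * w * g⁻¹} : Set K)) = Nat.card ↥(centralizer ({w} : Set K)) := by
  refine Nat.card_congr ⟨fun a => ⟨g⁻¹ * a.1 * g, ?_⟩, fun a => ⟨g * a.1 * g⁻¹, ?_⟩, fun a => Subtype.ext (by group),
    fun a => Subtype.ext (by group)⟩
  · have h := mem_centralizer_singleton_iff.1 a.2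
    rw [mem_centralizer_singleton_iff]
    calc g⁻¹ * a.1 * g * w = g⁻¹ * (a.1 * (g * w * g⁻¹)) * g := by group
      _ = g⁻¹ * (g * w * g⁻¹ * a.1) * g := by rw [h]
      _ = _ := by group
  · have h := mem_centralizer_singleton_iff.1 a.2
    rw [mem_centralizer_singleton_iff]
    calc g * a.1 * g⁻¹ * (g * w * g⁻¹) = g * (a.1 * w) * g⁻¹ := by group
      _ = g * (w * a.1) * g⁻¹ := by rw [h]
      _ = _ := by group

theorem three [Finite K] (h : Spor.IsoMcL K) {w : K} (hw : orderOf w = 3) :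
    27 ∣ Nat.card ↥(centralizer ({w} : Set K)) := by
  have : Fact (Nat.Prime 3) := ⟨Nat.prime_three⟩
  have hN := McLCent.card_L h
  obtain ⟨θ, R⟩ := McLCent.exists_rep h
  have hPr : McLType.ThreeElts.P ≤ θ.range := by rw [R.range]; exact McLType.ThreeElts.P_le_K0
  have hmap : (McLType.ThreeElts.P.comap θ).map θ = McLType.ThreeElts.P := Subgroup.map_comap_eq_self hPr
  have hP : Nat.card (McLType.ThreeElts.P.comap θ) = 729 := by
    rw [← Subgroup.card_map_of_injective R.inj, hmap, McLType.ThreeElts.card_P]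
  have hfac : (Nat.card K).factorization 3 = 6 := by
    rw [hN]
    have h2 : (898128000 : ℕ) = 3 ^ 6 * 1232000 := by norm_num
    rw [h2, Nat.factorization_mul (by norm_num) (by norm_num), Finsupp.add_apply,
      Nat.Prime.factorization_pow Nat.prime_three, Finsupp.single_eq_same,
      Nat.factorization_eq_zero_of_not_dvd (by norm_num)]
  obtain ⟨S, hS⟩ := (IsPGroup.of_card (p := 3) (n := 1) (by rw [Nat.card_zpowers, hw, pow_one]) :
    IsPGroup 3 (zpowers w)).exists_le_sylow
  obtain ⟨g, hg⟩ := MulAction.exists_smul_eq K S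
    (Sylow.ofCard (McLType.ThreeElts.P.comap θ) (by rw [hP, hfac]; norm_num))
  have h1 : g * w * g⁻¹ ∈ McLType.ThreeElts.P.comap θ := by
    have h2 : g * w * g⁻¹ ∈ (Sylow.ofCard (McLType.ThreeElts.P.comap θ) (by rw [hP, hfac]; norm_num) : Sylow 3 K) := by
      rw [← hg]
      exact ⟨w, hS (mem_zpowers w), rfl⟩
    exact h2
  have ho : orderOf (g * w * g⁻¹) = 3 := by
    rw [← hw]
    exact MulEquiv.orderOf_eq (MulAut.conj g) w
  have h2 := McLThree.dvd_cent (x := θ (g * w * g⁻¹)) h1 (by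
    intro h3
    have h4 : g * w * g⁻¹ = 1 := R.inj (by rw [h3, map_one])
    rw [h4, orderOf_one] at ho
    norm_num at ho) (by rw [← map_pow, ← ho, pow_orderOf_eq_one, map_one])
  refine h2.trans ?_
  rw [← card_cent_conj g w]
  have h3 : centralizer ({θ (g * w * g⁻¹)} : Set (Equiv.Perm (Fin 275))) ⊓ McLType.ThreeElts.P ≤
      (centralizer ({g * w * g⁻¹} : Set K)).map θ := by
    rintro y ⟨hy1, hy2⟩
    obtain ⟨x, rfl⟩ := hPr hy2
    refine ⟨x, mem_centralizer_singleton_iff.2 (R.inj ?_), rfl⟩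
    rw [map_mul, map_mul θ (g * w * g⁻¹)]
    exact mem_centralizer_singleton_iff.1 hy1
  have h4 := Subgroup.card_dvd_of_le h3
  rwa [Subgroup.card_map_of_injective R.inj] at h4

theorem five [Finite K] (h : Spor.IsoMcL K) {w : K} (hw : orderOf w = 5) :
    25 ∣ Nat.card ↥(centralizer ({w} : Set K)) := by
  have : Fact (Nat.Prime 5) := ⟨Nat.prime_five⟩
  have hN := McLCent.card_L h
  obtain ⟨S, hS⟩ := (IsPGroup.of_card (p := 5) (n := 1) (by rw [Nat.card_zpowers, hw, pow_one]) :
    IsPGroup 5 (zpowers w)).exists_le_sylow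
  have h1 : 5 ^ 2 ∣ Nat.card S := S.pow_dvd_card_of_pow_dvd_card (by rw [hN]; norm_num)
  exact (sq_dvd S.2 h1 ⟨w, hS (mem_zpowers w)⟩).trans (card_cent_dvd_of_le (P := S.1) ⟨w, hS (mem_zpowers w)⟩)

theorem core [Finite K] (h : Spor.IsoMcL K) {w : K} {p d : ℕ} (hp : p.Prime) (hp2 : Odd p) (hw : orderOf w = p)
    (hd : d ∣ Nat.card ↥(centralizer ({w} : Set K))) (hnd : ¬ d ∣ 40320) : pCore 2 ↥(centralizer ({w} : Set K)) = ⊥ := by
  by_contra hcon
  obtain ⟨-, -, -, ⟨L⟩⟩ := TypeM.FactsMcL.facts h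
  obtain ⟨L', hwt, h1 | h1⟩ := AltCore.cases_of_core L hp2 (w := w) (by rw [← hw]; exact pow_orderOf_eq_one w) hcon
  · apply AltCore.support_pos L' (w := w) ?_ ?_ hwt (by omega)
    · rintro rfl
      rw [orderOf_one] at hw
      exact hp.one_lt.ne hw
    · rw [hw]
      rintro rfl
      exact absurd hp2 (by decide)
  · apply hnd
    have h2 := Subgroup.card_dvd_of_le h1
    rw [AltCore.card_cent_t L' (by norm_num)] at h2
    exact hd.trans h2

/-- **The row of `McL` at the prime 2.** -/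
theorem row [Finite K] (h : Spor.IsoMcL K) (B : Base K) : H516.Row 2 K := by
  have hN := McLCent.card_L h
  obtain ⟨θ, R⟩ := McLCent.exists_rep h
  have hQr : McLThree.Q ≤ θ.range := by rw [R.range]; exact McLThree.Q_le
  have hmap : (McLThree.Q.comap θ).map θ = McLThree.Q := Subgroup.map_comap_eq_self hQr
  have hQ : Nat.card (McLThree.Q.comap θ) = Nat.card McLThree.Q := by
    rw [← Subgroup.card_map_of_injective R.inj, hmap]
  have hQ' := McLThree.card_Q
  refine row_of_count B (McLThree.Q.comap θ) (by rw [hQ]; exact McLThree.odd_Q) {7} 896 1002375 (by rw [hN])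
    (by norm_num) (by rintro r rfl; norm_num) (by norm_num) (by rw [hQ]; omega) ?_
  intro w hwp hw2
  have h1 : orderOf w ∣ 898128000 := by rw [← hN]; exact orderOf_dvd_natCard w
  have h2 : orderOf w = 2 ∨ orderOf w = 3 ∨ orderOf w = 5 ∨ orderOf w = 7 ∨ orderOf w = 11 := by
    have h3 : (898128000 : ℕ) = 2 ^ 7 * (3 ^ 6 * (5 ^ 3 * (7 * 11))) := by norm_num
    rw [h3] at h1
    rcases (Nat.Prime.dvd_mul hwp).1 h1 with h4 | h4
    · exact Or.inl ((Nat.prime_dvd_prime_iff_eq hwp Nat.prime_two).1 (hwp.dvd_of_dvd_pow h4))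
    right
    rcases (Nat.Prime.dvd_mul hwp).1 h4 with h4 | h4
    · exact Or.inl ((Nat.prime_dvd_prime_iff_eq hwp Nat.prime_three).1 (hwp.dvd_of_dvd_pow h4))
    right
    rcases (Nat.Prime.dvd_mul hwp).1 h4 with h4 | h4
    · exact Or.inl ((Nat.prime_dvd_prime_iff_eq hwp Nat.prime_five).1 (hwp.dvd_of_dvd_pow h4))
    right
    rcases (Nat.Prime.dvd_mul hwp).1 h4 with h4 | h4
    · exact Or.inl ((Nat.prime_dvd_prime_iff_eq hwp (by norm_num)).1 h4)
    · exact Or.inr ((Nat.prime_dvd_prime_iff_eq hwp (by norm_num)).1 h4)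
  rcases h2 with h2 | h2 | h2 | h2 | h2
  · exact absurd h2 hw2
  · exact Or.inl (core h Nat.prime_three (by decide) h2 (three h h2) (by norm_num))
  · exact Or.inl (core h Nat.prime_five (by decide) h2 (five h h2) (by norm_num))
  · right
    refine ⟨h2, ?_⟩
    have h3 := (McLCent.seven h (zpowers w) (by rw [Nat.card_zpowers, h2])).1
    rw [SylOne.centralizer_zpowers_eq] at h3
    have h4 := Nat.le_of_dvd (by norm_num) h3
    rw [hQ]
    omega
  · left
    have h3 := (McLCent.eleven h (zpowers w) (by rw [Nat.card_zpowers, h2])).1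
    rw [SylOne.centralizer_zpowers_eq] at h3
    exact pCore_eq_bot_of_odd (by rw [h3]; decide)

end Cfsg.Agent.H47.Wk.McL
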